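import Groth.Agent.Lib.Twist.Tensor

/-!
# Morphisms between twists are multiplications by sections
-/

set_option autoImplicit false
set_option backward.isDefEq.respectTransparency false

open CategoryTheory CategoryTheory.Limits AlgebraicGeometry TopologicalSpace Opposite

universe u

namespace Groth.Agent.RelDual12

open Groth.Agent Groth.Agent.Twist

variable {R A : Type u} [CommRing R] [CommRing A] [Algebra R A] {𝒜 : ℕ → Submodule R A} [GradedAlgebra 𝒜]
  {a b c : ℤ}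

/-- Multiplication by a global section of `O(c)`, on sections over one open. -/
noncomputable def mulApp (h : c + a = b) (f : Sec (𝒜 := 𝒜) c ⊤) (V : (Proj 𝒜).Opens)
    (σ : Γ(_root_.Twist.twist 𝒜 a, V)) : Γ(_root_.Twist.twist 𝒜 b, V) :=
  (castSec h (mulSec (_root_.Twist.resN c (homOfLE (le_top : V ≤ ⊤)).op f : Sec (𝒜 := 𝒜) c V)
    (σ : Sec (𝒜 := 𝒜) a V)) : Sec (𝒜 := 𝒜) b V)

theorem val_mulApp (h : c + a = b) (f : Sec (𝒜 := 𝒜) c ⊤) (V : (Proj 𝒜).Opens)
    (σ : Γ(_root_.Twist.twist 𝒜 a, V)) (x : ProjectiveSpectrum 𝒜) (hx : x ∈ V) :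
    val (n := b) (mulApp h f V σ) x hx = val f x trivial * val (n := a) σ x hx :=
  (val_castSec h _ x hx).trans rfl

/-- Multiplication by a global section of `O(c)`. -/
noncomputable def mulSecHom (h : c + a = b) (f : Sec (𝒜 := 𝒜) c ⊤) :
    _root_.Twist.twist 𝒜 a ⟶ _root_.Twist.twist 𝒜 b :=
  ⟨PresheafOfModules.homMk
    { app := fun V => AddCommGrpCat.ofHom
        (AddMonoidHom.mk' (mulApp h f V.unop) fun σ τ => sec_ext fun x hx => by
          show val (n := b) (mulApp h f V.unop (σ + τ)) x hx =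
            val (n := b) (mulApp h f V.unop σ) x hx + val (n := b) (mulApp h f V.unop τ) x hx
          rw [val_mulApp, val_mulApp, val_mulApp]
          exact mul_add _ _ _)
      naturality := fun V V' i => by
        ext σ
        refine sec_ext fun x hx => ?_
        refine (val_mulApp h f V'.unop _ x hx).trans ?_
        exact (val_mulApp h f V.unop σ x (leOfHom i.unop hx)).symm }
    (fun V r σ => sec_ext fun x hx => by
      refine (val_mulApp h f V.unop _ x hx).trans ?_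
      refine Eq.trans ?_ (val_smul r (mulApp h f V.unop σ) x hx).symm
      refine (congrArg (val f x trivial * ·) (val_smul r σ x hx)).trans ?_
      rw [val_mulApp]
      exact mul_left_comm _ _ _)⟩

theorem val_mulSecHom (h : c + a = b) (f : Sec (𝒜 := 𝒜) c ⊤) (V : (Proj 𝒜).Opens)
    (σ : Γ(_root_.Twist.twist 𝒜 a, V)) (x : ProjectiveSpectrum 𝒜) (hx : x ∈ V) :
    val (n := b) ((mulSecHom h f).app V σ) x hx = val f x trivial * val (n := a) σ x hx :=
  val_mulApp h f V σ x hx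

/-- Every morphism of twists is a multiplication, once `O(a)` has local generators. -/
theorem exists_mulSecHom_eq (hcov : (⨆ f : 𝒜 1, Proj.basicOpen 𝒜 (f : A)) = ⊤) (h : c + a = b)
    (φ : _root_.Twist.twist 𝒜 a ⟶ _root_.Twist.twist 𝒜 b) : ∃ f, mulSecHom h f = φ := by
  obtain ⟨p, q, hpq⟩ : ∃ p q : ℕ, a = (p : ℤ) - q := ⟨a.toNat, (-a).toNat, by omega⟩
  have hpow : ∀ (g : 𝒜 1) (k : ℕ), (g : A) ^ k ∈ 𝒜 k := fun g k => by simpa using SetLike.pow_mem_graded k g.2
  have hne : ∀ (g : 𝒜 1) (k : ℕ), Proj.basicOpen 𝒜 (g : A) ≤ Proj.basicOpen 𝒜 ((g : A) ^ k) :=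
    fun g k x hx h => hx (x.isPrime.mem_of_pow_mem k h)
  let e : ∀ g : 𝒜 1, Sec (𝒜 := 𝒜) a (Proj.basicOpen 𝒜 (g : A)) := fun g =>
    frac 𝒜 _ (hpow g p) (hpow g q) (by omega) (hne g q)
  let e' : ∀ g : 𝒜 1, Sec (𝒜 := 𝒜) (-a) (Proj.basicOpen 𝒜 (g : A)) := fun g =>
    frac 𝒜 _ (hpow g q) (hpow g p) (by omega) (hne g p)
  have he : ∀ g x hx, val (e g) x hx * val (e' g) x hx = 1 := fun g x hx =>
    mk_mul_mk_eq_one 𝒜 (hne g p hx) (hne g q hx)
  let w : ∀ g : 𝒜 1, Sec (𝒜 := 𝒜) c (Proj.basicOpen 𝒜 (g : A)) := fun g =>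
    castSec (by omega) (mulSec (φ.app (Proj.basicOpen 𝒜 (g : A)) (e g) : Sec (𝒜 := 𝒜) b _) (e' g))
  -- the value of `φ` on any section
  have key : ∀ (g : 𝒜 1) (V : (Proj 𝒜).Opens) (σ : Γ(_root_.Twist.twist 𝒜 a, V))
      (x : ProjectiveSpectrum 𝒜) (hx : x ∈ V) (hg : x ∈ Proj.basicOpen 𝒜 (g : A)),
      val (n := b) (φ.app V σ) x hx = val (w g) x hg * val (n := a) σ x hx := by
    intro g V σ x hx hg
    let V' : (Proj 𝒜).Opens := V ⊓ Proj.basicOpen 𝒜 (g : A)
    obtain ⟨r, hr⟩ := (bijective_smul_of_inverse (e g) (e' g) (he g) V' inf_le_right).2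
      (M1.mres _ (inf_le_left : V' ≤ V) σ)
    dsimp only at hr
    have h1 : M1.mres (_root_.Twist.twist 𝒜 b) (inf_le_left : V' ≤ V) (φ.app V σ) =
        r • M1.mres (_root_.Twist.twist 𝒜 b) (inf_le_right : V' ≤ _) (φ.app _ (e g : Γ(_root_.Twist.twist 𝒜 a, _))) := by
      rw [← M1.app_mres, ← hr, Scheme.Modules.Hom.app_smul, M1.app_mres]
    have h2 := congrArg (fun s => val (n := b) (U := V') s x ⟨hx, hg⟩) h1
    have h3 := congrArg (fun s => val (n := a) (U := V') s x ⟨hx, hg⟩) hr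
    have h2' : val (n := b) (φ.app V σ) x hx =
        valO r x ⟨hx, hg⟩ * val (n := b) (φ.app _ (e g : Γ(_root_.Twist.twist 𝒜 a, _))) x hg :=
      h2.trans (val_smul r _ x ⟨hx, hg⟩)
    have h3' : valO r x ⟨hx, hg⟩ * val (e g) x hg = val (n := a) σ x hx :=
      (val_smul r _ x ⟨hx, hg⟩).symm.trans h3
    rw [h2', ← h3']
    show _ = val (castSec _ _) x hg * _
    rw [val_castSec, val_mulSec]
    have h4 := he g x hg
    calc valO r x ⟨hx, hg⟩ * val (n := b) (φ.app _ (e g)) x hg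
        = valO r x ⟨hx, hg⟩ * val (n := b) (φ.app _ (e g)) x hg * (val (e g) x hg * val (e' g) x hg) := by
          rw [h4, mul_one]
      _ = _ := by ring
  have hmem : ∀ x : ProjectiveSpectrum 𝒜, ∃ g : 𝒜 1, x ∈ Proj.basicOpen 𝒜 (g : A) := fun x => by
    have hx : x ∈ (⨆ f : 𝒜 1, Proj.basicOpen 𝒜 (f : A)) := by rw [hcov]; trivial
    exact Opens.mem_iSup.1 hx
  choose γ hγ using hmem
  -- independence of the chosen chart
  have indep : ∀ (g : 𝒜 1) (x : ProjectiveSpectrum 𝒜) (hg : x ∈ Proj.basicOpen 𝒜 (g : A)),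
      val (w (γ x)) x (hγ x) = val (w g) x hg := by
    intro g x hg
    have h1 := key (γ x) _ (e g : Γ(_root_.Twist.twist 𝒜 a, _)) x hg (hγ x)
    have h2 := key g _ (e g : Γ(_root_.Twist.twist 𝒜 a, _)) x hg hg
    have h3 := congrArg (· * val (e' g) x hg) (h1.symm.trans h2)
    -- both charts compute the same value
    rwa [mul_assoc, mul_assoc, he g x hg, mul_one, mul_one] at h3
  refine ⟨⟨fun x => ⟨val (w (γ x.1)) x.1 (hγ x.1), val_mem _ _ _⟩, fun x => ?_⟩,
    Scheme.Modules.hom_ext _ _ fun V => ?_⟩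
  · obtain ⟨U', m, i, di, dj, u, s, nin, cond, hw⟩ := (w (γ x.1)).2 ⟨x.1, hγ x.1⟩
    refine ⟨U', m, homOfLE le_top, di, dj, u, s, nin, cond, fun y => ?_⟩
    exact (indep (γ x.1) y.1 (i y).2).trans (hw y)
  · ext σ
    refine sec_ext fun x hx => ?_
    refine (val_mulSecHom h _ V σ x hx).trans ?_
    exact (key (γ x) V σ x hx (hγ x)).symm

end Groth.Agent.RelDual12
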