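import Groth.Agent.Lib.ProjSpace.BaseChange
import Groth.Agent.S10829

/-!
# The fibres of `P^n_A`
-/

set_option autoImplicit false
set_option linter.style.haveILetI false
set_option backward.isDefEq.respectTransparency false

universe u

open CategoryTheory CategoryTheory.Limits AlgebraicGeometry

namespace Groth.Agent.RelDual12

open Groth.Agent

/-- The fibres of `P^n_A` have dimension at most `n`. -/
theorem dim_fiber_le (A : Type u) [CommRing A] (n : ℕ) (y : ↥(Spec (CommRingCat.of A))) :
    topologicalKrullDim ↥((CohB1.ProjSpace.toSpec n A).fiber y) ≤ (n : WithBot ℕ∞) := by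
  let S : Scheme.{u} := Spec (CommRingCat.of A)
  let g := S.fromSpecResidueField y
  have h := ProjSpace.isPullback_map n (Spec.preimage g).hom
  have hg : Spec.map (CommRingCat.ofHom (Spec.preimage g).hom) = g := Spec.map_preimage g
  rw [hg] at h
  let e : CohB1.ProjSpace n (S.residueField y) ≅ (CohB1.ProjSpace.toSpec n A).fiber y := h.isoPullback
  rw [← IsHomeomorph.topologicalKrullDim_eq _ e.hom.homeomorph.isHomeomorph]
  exact (S10829.result (S.residueField y) n).le

end Groth.Agent.RelDual12
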