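import Groth.Agent.Lib.BC8.TopDualRel
import Groth.Agent.Lib.CohFound.FTSubVan
import Groth.Agent.Lib.CBC10.Bc0
import Groth.Agent.Lib.CohGab13.Basic
import Groth.Prelude.Def_Canon

/-!
# Duality pairs over a ring are detected by a generating family
-/

set_option autoImplicit false
set_option linter.style.haveILetI false
set_option backward.isDefEq.respectTransparency false

universe u

open CategoryTheory CategoryTheory.Limits AlgebraicGeometry Opposite TopologicalSpace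

namespace Groth.Agent.RelDual12

open Groth.Agent

/-- Every coherent module is a quotient of a finite coproduct of members of `P`. -/
def Generates (X : Scheme.{u}) {κ : Type} (T : κ → X.Modules) : Prop :=
  ∀ G : X.Modules, Coh.IsCoh G → ∃ (b : ℕ) (m : κ) (π : (∐ fun _ : Fin b => T m) ⟶ G), Epi π

variable {X : Scheme.{u}}

section iso

variable {κ : Type} {T : κ → X.Modules} {ω ω₀ : X.Modules} (ρ : ω ⟶ ω₀)

theorem eq_zero_of_comp_eq_zero (hgen : Generates X T)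
    (h : ∀ m, Function.Bijective fun φ : T m ⟶ ω => φ ≫ ρ) {G : X.Modules} (hG : Coh.IsCoh G) (φ : G ⟶ ω)
    (hφ : φ ≫ ρ = 0) : φ = 0 := by
  obtain ⟨b, m, π, hπ⟩ := hgen G hG
  rw [← cancel_epi π, comp_zero]
  refine Sigma.hom_ext _ _ fun l => (h m).1 ?_
  show (Sigma.ι (fun _ : Fin b => T m) l ≫ π ≫ φ) ≫ ρ = (Sigma.ι (fun _ : Fin b => T m) l ≫ 0) ≫ ρ
  simp [hφ]

theorem exists_lift (hgen : Generates X T) (h : ∀ m, Function.Bijective fun φ : T m ⟶ ω => φ ≫ ρ)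
    (hT : ∀ m, Coh.IsCoh (T m)) [IsNoetherian X] {G : X.Modules} (hG : Coh.IsCoh G) (ψ : G ⟶ ω₀) :
    ∃ φ : G ⟶ ω, φ ≫ ρ = ψ := by
  obtain ⟨b, m, π, hπ⟩ := hgen G hG
  choose φ₀ hφ₀ using fun l => (h m).2 (Sigma.ι (fun _ : Fin b => T m) l ≫ π ≫ ψ)
  have hK : Sigma.desc φ₀ ≫ ρ = π ≫ ψ := Sigma.hom_ext _ _ fun l => by
    rw [← hφ₀ l, ← Category.assoc, Sigma.ι_desc]
  let S : ShortComplex X.Modules := ShortComplex.mk (kernel.ι π) π (kernel.condition π)
  have hS : S.ShortExact := { exact := ShortComplex.exact_kernel π }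
  have hzero : kernel.ι π ≫ Sigma.desc φ₀ = 0 := by
    refine eq_zero_of_comp_eq_zero ρ hgen h (M1.isCoh_kernel (CohGab13.isCoh_sigma (hT m) b) hG.1 π) _ ?_
    simp [hK]
  refine ⟨hS.exact.desc (Sigma.desc φ₀) hzero, ?_⟩
  rw [← cancel_epi π]
  show π ≫ _ ≫ ρ = _
  rw [← Category.assoc, show π ≫ hS.exact.desc (Sigma.desc φ₀) hzero = Sigma.desc φ₀ from hS.exact.g_desc _ _, hK]

/-- A morphism of quasi-coherent modules is an isomorphism once it is so on maps from a generating family. -/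
theorem isIso_of_bijective_comp [IsNoetherian X] (hω : Coh.IsQCoh ω) (hω₀ : Coh.IsQCoh ω₀) (hgen : Generates X T)
    (h : ∀ m, Function.Bijective fun φ : T m ⟶ ω => φ ≫ ρ) (hT : ∀ m, Coh.IsCoh (T m)) : IsIso ρ := by
  refine CBC10.isIso_of_affine_basis ρ IsAffineOpen (fun O z hz => ?_) fun W hW => ⟨?_, fun b => ?_⟩
  · obtain ⟨V, hV, hzV, hVO⟩ := exists_isAffineOpen_mem_and_subset (U := O) hz
    exact ⟨V, hV, hzV, hVO⟩
  · refine (injective_iff_map_eq_zero _).2 fun a ha => ?_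
    obtain ⟨a', ha'⟩ : (M1.Sub.ker ρ).mem W a := (M1.Sub.mem_ker ρ W a).2 ha
    obtain ⟨q, hq1, hq2, hq3⟩ := CohFound.exists_ft_sub_mem (M1.isQCoh_kernel hω hω₀ ρ)
      (fun _ : PUnit.{u + 1} => W) (fun _ => hW.isCompact) (fun _ => a')
    obtain ⟨c, hc⟩ := hq3 PUnit.unit
    have h0 : q.i ≫ kernel.ι ρ = 0 := eq_zero_of_comp_eq_zero ρ hgen h ⟨hq1, hq2⟩ _ (by simp)
    rw [← ha', ← hc]
    show (kernel.ι ρ).app W (q.i.app W c) = 0
    rw [← M1.comp_app_apply, h0]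
    rfl
  · obtain ⟨q, hq1, hq2, hq3⟩ := CohFound.exists_ft_sub_mem hω₀
      (fun _ : PUnit.{u + 1} => W) (fun _ => hW.isCompact) (fun _ => b)
    obtain ⟨c, hc⟩ := hq3 PUnit.unit
    obtain ⟨φ, hφ⟩ := exists_lift ρ hgen h hT ⟨hq1, hq2⟩ q.i
    exact ⟨φ.app W c, by rw [← M1.comp_app_apply, hφ, hc]⟩

end iso

section pairs

variable (A : Type u) [CommRing A] (X) [X.Over (Spec (CommRingCat.of A))]

theorem dualityMap_comp {F ω ω₀ : X.Modules} (r : ℕ) (tr₀ : Coh.HH X ω₀ r →ₗ[A] A) (φ : F ⟶ ω) (ρ : ω ⟶ ω₀) :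
    Canon.dualityMap A X r ω₀ tr₀ F (φ ≫ ρ) = (Canon.dualityMap A X r ω₀ tr₀ ω ρ) ∘ₗ Canon.HHlin A φ r :=
  LinearMap.ext fun x => congrArg tr₀ (by
    show Sheaf.H.map _ r x = Sheaf.H.map _ r (Sheaf.H.map _ r x)
    rw [Functor.map_comp, Sheaf.H.map_comp_apply])

/-- Duality for a generating family of twists gives duality for all quasi-coherent modules. -/
theorem isRDualOver_of_generates [IsNoetherianRing A] [IsProper (X ↘ Spec (CommRingCat.of A))] (r : ℕ)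
    (hfib : ∀ y : ↥(Spec (CommRingCat.of A)),
      topologicalKrullDim ↥((X ↘ Spec (CommRingCat.of A)).fiber y) ≤ (r : WithBot ℕ∞))
    (ω : X.Modules) (hω : Coh.IsQCoh ω) (tr : Coh.HH X ω r →ₗ[A] A) {κ : Type} (T : κ → X.Modules)
    (hT : ∀ m, Coh.IsCoh (T m)) (hgen : Generates X T)
    (h : ∀ m, Function.Bijective (Canon.dualityMap A X r ω tr (T m))) :
    Canon.IsRDualOver A X r ω tr := by
  haveI : IsLocallyNoetherian X := LocallyOfFiniteType.isLocallyNoetherian (X ↘ Spec (CommRingCat.of A))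
  haveI : CompactSpace X := QuasiCompact.compactSpace_of_compactSpace (X ↘ Spec (CommRingCat.of A))
  haveI : IsNoetherian X := {}
  obtain ⟨ω₀, hω₀, t₀, ht₀⟩ := BC8.exists_relDualizing_module A X r fun y Z _ =>
    (topologicalKrullDim_subspace_le _ Z).trans (hfib y)
  have hb : ∀ F : X.Modules, Coh.IsQCoh F → Function.Bijective (Canon.dualityMap A X r ω₀ t₀ F) := fun F hF =>
    ⟨fun φ φ' e => (ht₀ F hF (Canon.dualityMap A X r ω₀ t₀ F φ)).unique (fun x => rfl)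
        (fun x => LinearMap.congr_fun e x),
      fun ψ => by
        obtain ⟨φ, hφ, -⟩ := ht₀ F hF ψ
        exact ⟨φ, LinearMap.ext fun x => (hφ x).symm⟩⟩
  obtain ⟨ρ, hρ⟩ := (hb ω hω).2 tr
  have key : ∀ (F : X.Modules) (φ : F ⟶ ω),
      Canon.dualityMap A X r ω₀ t₀ F (φ ≫ ρ) = Canon.dualityMap A X r ω tr F φ := fun F φ => by
    rw [dualityMap_comp X A r t₀ φ ρ, hρ]
    rfl
  haveI : IsIso ρ := isIso_of_bijective_comp ρ hω hω₀ hgen (fun m => by
    refine ⟨fun φ φ' e => (h m).1 ?_, fun ψ => ?_⟩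
    · rw [← key _ φ, ← key _ φ']
      exact congrArg _ e
    · obtain ⟨φ, hφ⟩ := (h m).2 (Canon.dualityMap A X r ω₀ t₀ (T m) ψ)
      exact ⟨φ, (hb _ (hT m).1).1 ((key _ φ).trans hφ)⟩) hT
  refine ⟨hω, fun F hF => ⟨fun φ φ' e => ?_, fun ψ => ?_⟩⟩
  · rw [← cancel_mono ρ]
    exact (hb F hF).1 ((key F φ).trans (e.trans (key F φ').symm))
  · obtain ⟨φ, hφ⟩ := (hb F hF).2 ψ
    exact ⟨φ ≫ inv ρ, (key F (φ ≫ inv ρ)).symm.trans (by simpa using hφ)⟩

end pairs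

end Groth.Agent.RelDual12
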