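import Groth.Agent.Lib.RelDual12.MulSec
import Groth.Agent.Lib.CohFound.ProjTopIso
import Groth.Agent.Lib.Twist.ProjSpace
import Groth.Prelude.Def_Canon

/-!
# The pairing between forms and top cohomology on projective space over a ring
-/

set_option autoImplicit false
set_option maxHeartbeats 800000
set_option backward.isDefEq.respectTransparency false

universe u

open CategoryTheory TopologicalSpace Opposite CategoryTheory.Limits AlgebraicGeometry MvPolynomial

namespace Groth.Agent.RelDual12

open Groth.Agent Groth.Agent.Twist Groth.Agent.CohFound Groth.Agent.CohFound.ProjNum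

variable (n : ℕ) (R : Type u) [CommRing R] (k : ℕ)

local notation "GR" => CohB1.polyGrading n R
local notation "D₀" => -((n : ℤ) + 1)
local notation "D" => -((n : ℤ) + 1 + k)
local notation "J" => n + 1 + k

theorem hhExt_smul {d : ℤ} (c : R) (x : Coh.HH (CohB1.ProjSpace n R) (_root_.Twist.twistProjSpace n R d) n) :
    hhExt (X := Proj GR) (_root_.Twist.twist GR d) n (c • x) =
      gMul (_root_.Twist.twist GR d) (baseHom n R c) n ⊤ (hhExt (X := Proj GR) (_root_.Twist.twist GR d) n x) :=
  hExt_map (gEnd (_root_.Twist.twist GR d) (baseHom n R c)) n x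

theorem topRev_smul (c : R) (a : GR k) :
    topRev n R k (c • a) = gMul (_root_.Twist.twist GR D) (baseHom n R c) n ⊤ (topRev n R k a) :=
  (congrArg (topΦ n R D) (revSec_smul c a)).trans (topΦ_gEnd (baseHom n R c) _)

/-- Forms of degree `k` are top cohomology, additively. -/
noncomputable def topAdd :
    GR k ≃+ Coh.HH (CohB1.ProjSpace n R) (_root_.Twist.twistProjSpace n R D) n :=
  (AddEquiv.ofBijective (topRev n R k) ⟨topRev_injective, topRev_surjective⟩).trans
    (hhExt (X := Proj GR) (_root_.Twist.twist GR D) n).symm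

theorem hhExt_topAdd (a : GR k) :
    hhExt (X := Proj GR) (_root_.Twist.twist GR D) n (topAdd n R k a) = topRev n R k a :=
  (hhExt (X := Proj GR) (_root_.Twist.twist GR D) n).apply_symm_apply _

theorem topAdd_smul (c : R) (a : GR k) : topAdd n R k (c • a) = c • topAdd n R k a :=
  (hhExt (X := Proj GR) (_root_.Twist.twist GR D) n).injective
    ((hhExt_topAdd n R k (c • a)).trans ((topRev_smul n R k c a).trans
      ((congrArg (gMul (_root_.Twist.twist GR D) (baseHom n R c) n ⊤) (hhExt_topAdd n R k a).symm).trans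
        (hhExt_smul n R c (topAdd n R k a)).symm)))

/-- Forms of degree `k` are top cohomology of `O(-(n+1+k))`. -/
noncomputable def topEquiv :
    GR k ≃ₗ[R] Coh.HH (CohB1.ProjSpace n R) (_root_.Twist.twistProjSpace n R D) n :=
  (topAdd n R k).toLinearEquiv (topAdd_smul n R k)

theorem hhExt_topEquiv (a : GR k) :
    hhExt (X := Proj GR) (_root_.Twist.twist GR D) n (topEquiv n R k a) = topRev n R k a :=
  hhExt_topAdd n R k a

/-- Forms of degree zero are constants. -/
noncomputable def constEquiv : R ≃ₗ[R] GR 0 :=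
  LinearEquiv.ofBijective
    ({ toFun := fun c => ⟨C c, isHomogeneous_C _ c⟩
       map_add' := fun a b => Subtype.ext (map_add C a b)
       map_smul' := fun a b => Subtype.ext (by simp [smul_eq_C_mul]) } : R →ₗ[R] GR 0)
    ⟨fun a b h => C_injective _ _ (Subtype.ext_iff.1 h),
      fun p => ⟨coeff 0 p.1, Subtype.ext (totalDegree_eq_zero_iff_eq_C.1
        (Nat.le_zero.1 (IsHomogeneous.totalDegree_le p.2))).symm⟩⟩

/-- The trace. -/
noncomputable def trace :
    Coh.HH (CohB1.ProjSpace n R) (_root_.Twist.twistProjSpace n R D₀) n ≃ₗ[R] R :=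
  ((constEquiv n R).trans (topEquiv n R 0)).symm

/-- The centre exponent at level `K`. -/
noncomputable def centre (K : ℕ) : Fin (n + 1) →₀ ℕ := Finsupp.equivFunOnFinite.symm fun _ => K - 1

variable {n R k}

theorem isNum_level {d : ℤ} {K K' : ℕ} (hK : K ≤ K') {U : (Proj GR).Opens} {σ : Sec (𝒜 := GR) d U}
    {g : MvPolynomial (Fin (n + 1)) R} (h : IsNum K σ g) :
    IsNum K' σ (px n R Finset.univ ^ (K' - K) * g) := fun x hU hx => by
  refine (h x hU hx).trans ((mk_eq_iff _ _ _).2 ⟨1, one_notMem_prime _ x, ?_⟩)
  obtain ⟨i, rfl⟩ := Nat.exists_eq_add_of_le hK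
  rw [Nat.add_sub_cancel_left, pow_add]
  ring

theorem isNum_revSec_zero (c : R) {K : ℕ} (hK : n + 1 ≤ K) :
    IsNum (d := D₀) K (revSec n R 0 (constEquiv n R c) : Sec (𝒜 := GR) D₀ (W n R Finset.univ))
      (monomial (centre n K) c) := by
  have h := isNum_level hK (isNum_revSec (k := 0) (constEquiv n R c))
  rw [show (constEquiv n R c).1 = monomial 0 c from rfl, rev_monomial, px_pow, monomial_mul, one_mul] at h
  have e : (K - (n + 1)) • ind n Finset.univ + revExp n 0 0 = centre n K := Finsupp.ext fun l => by
    simp [centre, revExp, negExp, ind_apply]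
    omega
  rwa [e] at h

/-- Only the centre coefficient survives in top cohomology of `O(-n-1)`. -/
theorem topΦ_eq_centre {K : ℕ} (hK : n + 1 ≤ K) (σ : (Od n R D₀).obj.obj (op (W n R Finset.univ)))
    {g : MvPolynomial (Fin (n + 1)) R} (hg : g ∈ GR (n * K + K - (n + 1)))
    (h : IsNum (d := D₀) K (σ : Sec (𝒜 := GR) D₀ (W n R Finset.univ)) g) :
    topΦ n R D₀ σ = topRev n R 0 (constEquiv n R (coeff (centre n K) g)) := by
  classical
  have hd : 0 ≤ D₀ + ((n : ℤ) + 1) * (K : ℕ) := by
    have : ((n + 1 : ℕ) : ℤ) ≤ (K : ℕ) := by exact_mod_cast hK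
    push_cast at this
    nlinarith
  have hdeg : deg n D₀ K = n * K + K - (n + 1) := by
    rw [deg, show D₀ + ((n : ℤ) + 1) * (K : ℕ) = ((n * K + K - (n + 1) : ℕ) : ℤ) by
      rw [Nat.cast_sub (by omega)]; push_cast; ring, Int.toNat_natCast]
  have hw : ∀ m ∈ g.support, m.degree = n * K + K - (n + 1) := fun m hm => by
    have := (hg : IsHomogeneous g _) (mem_support_iff.1 hm)
    rwa [show (1 : Fin (n + 1) → ℕ) = fun _ => 1 from rfl, ← Finsupp.degree_eq_weight_one] at this
  have key : ∀ m ∈ g.support, ∃ τ : (Od n R D₀).obj.obj (op (W n R Finset.univ)),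
      IsNum (d := D₀) K (τ : Sec (𝒜 := GR) D₀ (W n R Finset.univ)) (monomial m (coeff m g)) ∧
      topΦ n R D₀ τ = if m = centre n K then topRev n R 0 (constEquiv n R (coeff m g)) else 0 := by
    intro m hm
    split_ifs with hc
    · subst hc
      exact ⟨revSec n R 0 (constEquiv n R _), isNum_revSec_zero _ hK, rfl⟩
    · obtain ⟨l, hl⟩ : ∃ l, K ≤ m l := by
        by_contra hall
        push Not at hall
        refine hc (Finsupp.ext fun l => ?_)
        have hsum : ∑ i, ((K - 1) - m i) = 0 := by
          have h1 : ∑ i, ((K - 1) - m i) + ∑ i, m i = (n + 1) * (K - 1) := by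
            rw [← Finset.sum_add_distrib]
            refine (Finset.sum_congr rfl fun i _ => ?_ : _ = ∑ _i : Fin (n + 1), (K - 1)).trans (by simp)
            have := hall i
            omega
          have h2 := hw m hm
          rw [Finsupp.degree_eq_sum] at h2
          rw [Nat.mul_sub, mul_one, add_mul, one_mul] at h1
          omega
        have h3 := Finset.sum_eq_zero_iff.1 hsum l (Finset.mem_univ l)
        have := hall l
        simp [centre]
        omega
      have hn : 0 < n := Nat.pos_of_ne_zero fun h0 => by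
        subst h0
        have h2 := hw m hm
        rw [Finsupp.degree_eq_sum, Fin.sum_univ_one] at h2
        rw [Fin.fin_one_eq_zero l] at hl
        omega
      obtain ⟨σl, hσl⟩ := exists_sec (s := Finset.univ.erase l) (g := monomial m (coeff m g)) hd
        ⟨isHomogeneous_monomial _ ((hw m hm).trans hdeg.symm), fun m' hm' i hi => by
            rw [coeff_monomial] at hm'
            split_ifs at hm' with h
            · rw [← h]
              have : i = l := by simpa using hi
              rwa [this]
            · exact absurd rfl hm'⟩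
      exact ⟨_, isNum_map (W_univ_le n R (Finset.univ.erase l)) hσl, topΦ_map_eq_zero hn l σl⟩
  choose τ hτ hΦ using key
  have hσ : σ = ∑ m ∈ g.support.attach, τ m.1 m.2 := by
    refine sec_unique (d := D₀) Finset.univ_nonempty (σ := σ) h ?_
    have h' := isNum_sum (d := D₀) g.support.attach (fun m : g.support => τ m.1 m.2)
      (fun m : g.support => monomial m.1 (coeff m.1 g)) fun m _ => hτ m.1 m.2
    rwa [Finset.sum_attach g.support (fun m => monomial m (coeff m g)), ← g.as_sum] at h'
  rw [hσ, map_sum, Finset.sum_congr rfl fun m _ => hΦ m.1 m.2,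
    Finset.sum_attach g.support fun m => if m = centre n K then topRev n R 0 (constEquiv n R (coeff m g)) else 0,
    Finset.sum_ite_eq']
  split_ifs with hm
  · rfl
  · rw [notMem_support_iff.1 hm, map_zero, map_zero]

/-- Multiplication by a form, from `O(-(n+1+k))` to `O(-n-1)`. -/
noncomputable def formHom (f : GR k) :
    _root_.Twist.twistProjSpace n R D ⟶ _root_.Twist.twistProjSpace n R D₀ :=
  mulSecHom (c := (k : ℤ)) (by ring) (_root_.Twist.globalOf GR f)

theorem isNum_formHom (f : GR k) (a : GR k) :
    IsNum (d := D₀) J ((formHom f).app (W n R Finset.univ) (revSec n R k a) :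
      Sec (𝒜 := GR) D₀ (W n R Finset.univ)) (f.1 * rev n R k a.1) := fun x hU hx => by
  refine (val_mulSecHom _ _ _ _ x hU).trans ?_
  refine (congrArg (val (_root_.Twist.globalOf GR f) x trivial * ·) (isNum_revSec a x hU hx)).trans ?_
  refine (Localization.mk_mul _ _ _ _).trans ?_
  exact (mk_eq_iff _ _ _).2 ⟨1, one_notMem_prime _ x, by simp⟩

theorem trace_formHom_monomial (f : GR k) (m : Fin (n + 1) →₀ ℕ) (hm : m.degree = k) (c : R) :
    trace n R (Canon.HHlin R (formHom f) n (topEquiv n R k ⟨monomial m c, isHomogeneous_monomial c hm⟩)) =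
      coeff m f.1 * c := by
  let a : GR k := ⟨monomial m c, isHomogeneous_monomial c hm⟩
  have h1 : hhExt (X := Proj GR) (_root_.Twist.twist GR D₀) n
      (Canon.HHlin R (formHom f) n (topEquiv n R k a)) =
        topΦ n R D₀ ((formHom f).app (W n R Finset.univ) (revSec n R k a)) := by
    refine (hExt_map _ n _).trans ?_
    refine (congrArg (mp _ n ⊤) (hhExt_topEquiv n R k a)).trans ?_
    exact (topSec_natural (allI_eq n R).le top_le_fU _ (revSec n R k a)).symm
  have hhom : f.1 * rev n R k a.1 ∈ GR (n * J + J - (n + 1)) := by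
    have h := SetLike.mul_mem_graded f.2 (supp_rev (k := k) a.2).homog
    convert h using 2
    rw [deg, show D + ((n : ℤ) + 1) * ((J : ℕ) : ℤ) = ((n * J : ℕ) : ℤ) by push_cast; ring, Int.toNat_natCast]
    omega
  have h2 : Canon.HHlin R (formHom f) n (topEquiv n R k a) =
      topEquiv n R 0 (constEquiv n R (coeff (centre n J) (f.1 * rev n R k a.1))) :=
    (hhExt (X := Proj GR) (_root_.Twist.twist GR D₀) n).injective
      (h1.trans ((topΦ_eq_centre (Nat.le_add_right _ _) _ hhom (isNum_formHom f a)).trans
        (hhExt_topEquiv n R 0 _).symm))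
  show trace n R (Canon.HHlin R (formHom f) n (topEquiv n R k a)) = _
  rw [h2]
  refine (LinearEquiv.symm_apply_apply ((constEquiv n R).trans (topEquiv n R 0)) _).trans ?_
  have hle : ∀ l, m l ≤ k := fun l => hm ▸ Finsupp.le_degree l m
  rw [show a.1 = monomial m c from rfl, rev_monomial, mul_comm, coeff_monomial_mul', if_pos, mul_comm]
  · congr 2
    refine Finsupp.ext fun l => ?_
    have := hle l
    simp [centre, revExp, negExp]
    omega
  · intro l
    have := hle l
    simp [centre, revExp, negExp]
    omega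

/-- The pairing is perfect. -/
theorem bijective_dualityMap :
    Function.Bijective (Canon.dualityMap R (CohB1.ProjSpace n R) n (_root_.Twist.twistProjSpace n R D₀)
      (trace n R).toLinearMap (_root_.Twist.twistProjSpace n R D)) := by
  classical
  have hval : ∀ (f : GR k) (m : Fin (n + 1) →₀ ℕ) (hm : m.degree = k),
      Canon.dualityMap R (CohB1.ProjSpace n R) n _ (trace n R).toLinearMap _ (formHom f)
        (topEquiv n R k ⟨monomial m 1, isHomogeneous_monomial 1 hm⟩) = coeff m f.1 := fun f m hm =>
    (trace_formHom_monomial f m hm 1).trans (mul_one _)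
  have hsurj : Function.Surjective fun f : GR k => formHom f := fun φ => by
    obtain ⟨s, hs⟩ := exists_mulSecHom_eq (c := (k : ℤ)) (Groth.Agent.Twist.iSup_basicOpen_one n R) (by ring) φ
    obtain ⟨f, hf⟩ := (globalOf_bijective_polyGrading n R k).2 s
    exact ⟨f, by dsimp only [formHom]; exact (congrArg _ hf).trans hs⟩
  refine ⟨fun φ φ' h => ?_, fun ψ => ?_⟩
  · obtain ⟨f, rfl⟩ := hsurj φ
    obtain ⟨f', rfl⟩ := hsurj φ'
    refine congrArg formHom (Subtype.ext (ext _ _ fun m => ?_))
    by_cases hm : m.degree = k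
    · rw [← hval f m hm, ← hval f' m hm]
      exact LinearMap.congr_fun h _
    · rw [(f.2 : IsHomogeneous f.1 k).coeff_eq_zero hm, (f'.2 : IsHomogeneous f'.1 k).coeff_eq_zero hm]
  · let E : Finset (Fin (n + 1) →₀ ℕ) :=
      (Finsupp.finite_of_degree_le k).toFinset.filter fun m => m.degree = k
    have hE : ∀ m, m ∈ E ↔ m.degree = k := fun m => by
      simp [E]
      exact le_of_eq
    let v : (Fin (n + 1) →₀ ℕ) → R := fun m =>
      if hm : m.degree = k then ψ (topEquiv n R k ⟨monomial m 1, isHomogeneous_monomial 1 hm⟩) else 0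
    let f : GR k := ⟨∑ m ∈ E, monomial m (v m),
      sum_mem fun m hm => isHomogeneous_monomial _ ((hE m).1 hm)⟩
    refine ⟨formHom f, ?_⟩
    suffices hh : (Canon.dualityMap R (CohB1.ProjSpace n R) n _ (trace n R).toLinearMap _ (formHom f)) ∘ₗ
        (topEquiv n R k).toLinearMap = ψ ∘ₗ (topEquiv n R k).toLinearMap by
      refine LinearMap.ext fun x => ?_
      obtain ⟨a, rfl⟩ := (topEquiv n R k).surjective x
      exact LinearMap.congr_fun hh a
    refine LinearMap.ext fun a => ?_
    have ha : a = ∑ m ∈ a.1.support.attach, coeff m.1 a.1 •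
        (⟨monomial m.1 1, isHomogeneous_monomial 1 (by
          have := (a.2 : IsHomogeneous a.1 k) (mem_support_iff.1 m.2)
          rwa [show (1 : Fin (n + 1) → ℕ) = fun _ => 1 from rfl, ← Finsupp.degree_eq_weight_one] at this)⟩ : GR k) := by
      refine Subtype.ext ?_
      simp only [AddSubmonoidClass.coe_finsetSum, SetLike.val_smul, smul_monomial, smul_eq_mul, mul_one]
      conv_lhs => rw [a.1.as_sum]
      exact (Finset.sum_attach a.1.support fun m => monomial m (coeff m a.1)).symm
    rw [ha, map_sum, map_sum]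
    refine Finset.sum_congr rfl fun m _ => ?_
    rw [map_smul, map_smul]
    congr 1
    have hm : m.1.degree = k := by
      have := (a.2 : IsHomogeneous a.1 k) (mem_support_iff.1 m.2)
      rwa [show (1 : Fin (n + 1) → ℕ) = fun _ => 1 from rfl, ← Finsupp.degree_eq_weight_one] at this
    refine (hval f m.1 hm).trans ?_
    rw [show f.1 = ∑ m ∈ E, monomial m (v m) from rfl, coeff_sum]
    simp only [coeff_monomial, Finset.sum_ite_eq']
    rw [if_pos ((hE m.1).2 hm)]
    exact dif_pos hm

end Groth.Agent.RelDual12
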