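import Groth.Agent.Lib.PushNatH7.Basic
import Groth.Agent.Lib.ThetaGrp19.Scalar
import Groth.Prelude.Def_Canon

/-!
# Cohomology of direct images along affine morphisms, linearly over the base ring
-/

set_option autoImplicit false
set_option linter.style.haveILetI false
set_option backward.isDefEq.respectTransparency false

universe u

open CategoryTheory Limits AlgebraicGeometry Opposite TopologicalSpace

namespace Groth.Agent.RelDual12

open Groth.Agent ThetaGrp19

variable (A : Type u) [CommRing A] {X Y : Scheme.{u}}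

theorem toSheaf_map_smulHom (M : X.Modules) (c : Γ(X, ⊤)) :
    (SheafOfModules.toSheaf X.ringCatSheaf).map (smulHom M c) = Coh.smulAb M c := by
  apply CategoryTheory.Sheaf.hom_ext
  exact NatTrans.ext (funext fun V => AddCommGrpCat.ext fun x => rfl)

theorem pushforward_map_smulHom (f : X ⟶ Y) (M : X.Modules) (c : Γ(Y, ⊤)) :
    (Scheme.Modules.pushforward f).map (smulHom M (f.appTop.hom c)) =
      smulHom ((Scheme.Modules.pushforward f).obj M) c :=
  Scheme.Modules.hom_ext _ _ fun V => by
    ext s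
    refine (?_ : (smulHom M (f.appTop.hom c)).app (f ⁻¹ᵁ V) s = _)
    rw [smulHom_app]
    exact congrArg (fun r : Γ(X, f ⁻¹ᵁ V) => r • (show Γ(M, f ⁻¹ᵁ V) from s))
      (ConcreteCategory.congr_hom (f.naturality (homOfLE (le_top : V ≤ ⊤)).op) c).symm

/-- Cohomology of direct images along an affine morphism over `Spec A`, linearly and naturally. -/
theorem exists_HH_push_linear [X.Over (Spec (CommRingCat.of A))] [Y.Over (Spec (CommRingCat.of A))]
    (f : X ⟶ Y) [IsAffineHom f] (hf : f ≫ (Y ↘ Spec (CommRingCat.of A)) = X ↘ Spec (CommRingCat.of A)) (p : ℕ) :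
    ∃ T : ∀ M : X.Modules, Coh.IsQCoh M →
        (Coh.HH Y ((Coh.push f).obj M) p ≃ₗ[A] Coh.HH X M p),
      ∀ (M N : X.Modules) (hM : Coh.IsQCoh M) (hN : Coh.IsQCoh N) (φ : M ⟶ N) x,
        T N hN (Canon.HHlin A ((Coh.push f).map φ) p x) = Canon.HHlin A φ p (T M hM x) := by
  obtain ⟨T, hT⟩ := PushNatH7.exists_HH_push_natural f p
  refine ⟨fun M hM => (T M hM).toLinearEquiv fun a x => ?_, fun M N hM hN φ x => hT M N hM hN φ x⟩
  let g := Coh.toGlobal (Y ↘ Spec (CommRingCat.of A)) a
  have hg : f.appTop.hom g = Coh.toGlobal (X ↘ Spec (CommRingCat.of A)) a := by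
    show _ = ((X ↘ Spec (CommRingCat.of A)).appTop).hom _
    rw [← hf, Scheme.Hom.comp_appTop]
    rfl
  have h := hT M M hM hM (smulHom M (f.appTop.hom g)) x
  rw [pushforward_map_smulHom, toSheaf_map_smulHom, toSheaf_map_smulHom, hg] at h
  exact h

end Groth.Agent.RelDual12
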