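import Groth.Agent.Lib.RelDual12.Gen
import Groth.Agent.Lib.RelDual12.Pairing
import Groth.Agent.Lib.CohFound.ClosedImmPush
import Groth.Agent.Lib.ProjSpace.Basic
import Groth.Agent.Lib.Twist.ProjSpace
import Groth.Agent.Lib.Snapper.Main
import Groth.Agent.S4402

/-!
# Negative twists generate the coherent modules on a projective scheme over a ring
-/

set_option autoImplicit false
set_option linter.style.haveILetI false
set_option backward.isDefEq.respectTransparency false
set_option maxHeartbeats 1000000

universe u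

open CategoryTheory CategoryTheory.Limits AlgebraicGeometry

namespace Groth.Agent.RelDual12

open Groth.Agent

variable (A : Type u) [CommRing A] (n : ℕ)

/-- The twists `O(-(n+1+k))`. -/
noncomputable abbrev negTwist (k : ℕ) : (CohB1.ProjSpace n A).Modules :=
  _root_.Twist.twistProjSpace n A (-((n : ℤ) + 1 + k))

variable [IsNoetherianRing A]

theorem isLocallyNoetherian : IsLocallyNoetherian (CohB1.ProjSpace n A) :=
  haveI : IsProper (CohB1.ProjSpace.toSpec n A) := ProjSpace.isProper_toSpec n A
  LocallyOfFiniteType.isLocallyNoetherian (CohB1.ProjSpace.toSpec n A)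

omit [IsNoetherianRing A] in
theorem irrelevant_eq :
    (HomogeneousIdeal.irrelevant (CohB1.polyGrading n A)).toIdeal =
      Ideal.span ((@Finset.image _ _ (Classical.decEq _) (fun i => (MvPolynomial.X i : MvPolynomial _ A))
        (Finset.univ : Finset (Fin (n + 1))) : Finset (MvPolynomial (Fin (n + 1)) A)) :
        Set (MvPolynomial (Fin (n + 1)) A)) := by
  rw [@Finset.coe_image _ _ (Classical.decEq _), Finset.coe_univ, Set.image_univ]
  refine le_antisymm (ProjSpace.irrelevant_le_span n A) (Ideal.span_le.2 ?_)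
  rintro _ ⟨i, rfl⟩
  exact HomogeneousIdeal.mem_irrelevant_of_mem _ Nat.one_pos (ProjSpace.X_mem' n A i)

theorem generates_negTwist : Generates (CohB1.ProjSpace n A) (negTwist A n) := by
  intro G hG
  classical
  obtain ⟨n₀, hn₀⟩ := S4402.result (CohB1.polyGrading n A) _ (fun f hf => by
    obtain ⟨i, -, rfl⟩ := (@Finset.mem_image _ _ (Classical.decEq _) _ _ _).1 hf
    exact ProjSpace.X_mem' n A i) (irrelevant_eq A n) G hG.1 hG.2
  obtain ⟨b, p, hp⟩ := hn₀ (n + 1 + n₀) (Nat.le_add_left _ _)
  have e : negTwist A n n₀ = _root_.Twist.twist (CohB1.polyGrading n A) (-((n + 1 + n₀ : ℕ) : ℤ)) := by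
    show _root_.Twist.twist _ _ = _
    congr 1
  refine ⟨b, n₀, Sigma.desc (fun l => eqToHom e ≫ Sigma.ι (fun _ : Fin b => _root_.Twist.twist (CohB1.polyGrading n A) (-((n + 1 + n₀ : ℕ) : ℤ))) l) ≫ p, ?_⟩
  refine ⟨fun {Z} g g' hg => (cancel_epi p).1 (Sigma.hom_ext _ _ fun l => ?_)⟩
  have := congrArg (fun t => Sigma.ι (fun _ : Fin b => negTwist A n n₀) l ≫ t) hg
  simpa [← cancel_epi (eqToHom e)] using this

variable {A n} {X : Scheme.{u}} (ι : X ⟶ CohB1.ProjSpace n A) [IsClosedImmersion ι]

theorem generates_pullback :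
    Generates X fun k : ℕ => (Scheme.Modules.pullback ι).obj (negTwist A n k) := by
  intro G hG
  haveI := isLocallyNoetherian A n
  let adj := Scheme.Modules.pullbackPushforwardAdjunction ι
  obtain ⟨b, k, p, hp⟩ := generates_negTwist A n _ (CohFound.isCoh_push_closedImm ι hG)
  haveI := CohFound.isIso_counit_closedImm ι G hG.1
  refine ⟨b, k, Sigma.desc fun l => (adj.homEquiv _ G).symm (Sigma.ι (fun _ : Fin b => negTwist A n k) l ≫ p), ⟨fun {Z} g g' hg => ?_⟩⟩
  rw [← cancel_epi (adj.counit.app G)]
  refine (adj.homEquiv ((Scheme.Modules.pushforward ι).obj G) Z).injective ?_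
  rw [adj.homEquiv_naturality_right, adj.homEquiv_naturality_right, adj.homEquiv_unit,
    adj.right_triangle_components, Category.id_comp, Category.id_comp]
  refine (cancel_epi p).1 (Sigma.hom_ext _ _ fun l => ?_)
  have h := congrArg (fun t => Sigma.ι (fun _ : Fin b => (Scheme.Modules.pullback ι).obj (negTwist A n k)) l ≫ t) hg
  simp only [Sigma.ι_desc_assoc] at h
  have h' := congrArg (adj.homEquiv _ Z) h
  simpa only [adj.homEquiv_naturality_right, Equiv.apply_symm_apply, Category.assoc] using h'

end Groth.Agent.RelDual12
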